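import Mathlib.FieldTheory.ChevalleyWarning
import Mathlib.LinearAlgebra.Dimension.Finite
import Mathlib.LinearAlgebra.FiniteDimensional.Lemmas
import Mathlib.Tactic.LinearCombination
import Mathlib.FieldTheory.Finiteness
import Mathlib.Algebra.CharP.Lemmas

/-!
# Zeros of nondegenerate quadratic forms over finite fields (any characteristic)

The form is given by a bilinear map `β`; its value at `v` is `β v v`.
-/

set_option autoImplicit false
set_option linter.all false

universe u

noncomputable section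

namespace GrothLib.QuadCount12

variable {k : Type u} [Field k] {V : Type u} [AddCommGroup V] [Module k V]

/-- The polar form. -/
def pol (β : V →ₗ[k] V →ₗ[k] k) (v : V) : V →ₗ[k] k := β v + β.flip v

theorem pol_apply (β : V →ₗ[k] V →ₗ[k] k) (v w : V) : pol β v w = β v w + β w v := rfl

/-- No singular vector of the quadric. -/
def NonDeg (β : V →ₗ[k] V →ₗ[k] k) : Prop := ∀ v, β v v = 0 → (∀ w, pol β v w = 0) → v = 0

/-- A totally singular subspace of the given dimension. -/
def HasSing (β : V →ₗ[k] V →ₗ[k] k) (s : ℕ) : Prop :=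
  ∃ W : Submodule k V, Module.finrank k W = s ∧ ∀ w ∈ W, β w w = 0

/-- The number of zeros. -/
def N (β : V →ₗ[k] V →ₗ[k] k) : ℕ := Nat.card {v : V // β v v = 0}

theorem apply_add_smul (β : V →ₗ[k] V →ₗ[k] k) (a v : V) (c : k) :
    β (a + c • v) (a + c • v) = β a a + c * pol β v a + c ^ 2 * β v v := by
  simp only [map_add, map_smul, LinearMap.add_apply, LinearMap.smul_apply, smul_eq_mul, pol_apply]
  ring

/-- A zero exists in at least three variables. -/
theorem exists_isotropic [Finite k] [FiniteDimensional k V] (β : V →ₗ[k] V →ₗ[k] k)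
    (h : 3 ≤ Module.finrank k V) : ∃ v : V, v ≠ 0 ∧ β v v = 0 := by
  classical
  haveI := Fintype.ofFinite k
  let b := Module.finBasis k V
  let P : MvPolynomial (Fin (Module.finrank k V)) k :=
    ∑ i, ∑ j, MvPolynomial.C (β (b i) (b j)) * (MvPolynomial.X i * MvPolynomial.X j)
  have hP : P.totalDegree ≤ 2 := by
    refine (MvPolynomial.totalDegree_finset_sum _ _).trans (Finset.sup_le fun i _ => ?_)
    refine (MvPolynomial.totalDegree_finset_sum _ _).trans (Finset.sup_le fun j _ => ?_)
    refine (MvPolynomial.totalDegree_mul _ _).trans ?_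
    rw [MvPolynomial.totalDegree_C, zero_add]
    refine (MvPolynomial.totalDegree_mul _ _).trans ?_
    rw [MvPolynomial.totalDegree_X, MvPolynomial.totalDegree_X]
  have hev : ∀ x, MvPolynomial.eval x P = β (b.equivFun.symm x) (b.equivFun.symm x) := fun x => by
    rw [Module.Basis.equivFun_symm_apply]
    simp only [P, map_sum, map_mul, MvPolynomial.eval_C, MvPolynomial.eval_X, map_smul, LinearMap.sum_apply,
      LinearMap.smul_apply, smul_eq_mul, Finset.mul_sum]
    rw [Finset.sum_comm]
    exact Finset.sum_congr rfl fun i _ => Finset.sum_congr rfl fun j _ => by ring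
  obtain ⟨p, hp⟩ := CharP.exists k
  haveI := hp
  have hdvd := char_dvd_card_solutions p (f := P) (by rw [Fintype.card_fin]; omega)
  let S := {x : Fin (Module.finrank k V) → k // MvPolynomial.eval x P = 0}
  let z : S := ⟨0, by rw [hev]; simp⟩
  haveI : Fact p.Prime := ⟨CharP.char_is_prime k p⟩
  have h2 : 1 < Fintype.card S :=
    lt_of_lt_of_le (Fact.out : p.Prime).one_lt (Nat.le_of_dvd (Fintype.card_pos_iff.2 ⟨z⟩) hdvd)
  obtain ⟨x, hx⟩ := Fintype.exists_ne_of_one_lt_card h2 z
  refine ⟨b.equivFun.symm x.1, fun h0 => hx (Subtype.ext ?_), by rw [← hev]; exact x.2⟩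
  exact b.equivFun.symm.map_eq_zero_iff.1 h0

section Split

variable (β : V →ₗ[k] V →ₗ[k] k)

/-- An isotropic vector is completed to a hyperbolic pair. -/
theorem exists_pair (hβ : NonDeg β) {v : V} (hv0 : v ≠ 0) (hv : β v v = 0) :
    ∃ w : V, pol β v w = 1 ∧ β w w = 0 := by
  have h : ∃ w, pol β v w ≠ 0 := by
    by_contra h
    exact hv0 (hβ v hv fun w => by_contra fun hw => h ⟨w, hw⟩)
  obtain ⟨w₀, hw₀⟩ := h
  let w₁ := (pol β v w₀)⁻¹ • w₀
  have h1 : pol β v w₁ = 1 := by rw [map_smul, smul_eq_mul, inv_mul_cancel₀ hw₀]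
  have hvv : pol β v v = 0 := by rw [pol_apply, hv, add_zero]
  refine ⟨w₁ + (-β w₁ w₁) • v, ?_, ?_⟩
  · rw [map_add, h1, map_smul, hvv, smul_zero, add_zero]
  · rw [apply_add_smul, h1, hv]; ring

variable {v w : V} (hv : β v v = 0) (hw : β w w = 0) (hvw : pol β v w = 1)

/-- The orthogonal complement of a pair. -/
def orth (v w : V) : Submodule k V := LinearMap.ker (pol β v) ⊓ LinearMap.ker (pol β w)

/-- The restricted form. -/
def res (v w : V) : orth β v w →ₗ[k] orth β v w →ₗ[k] k :=
  β.compl₁₂ (orth β v w).subtype (orth β v w).subtype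

include hv hw hvw in
/-- The decomposition along a hyperbolic pair. -/
theorem exists_equiv : ∃ e : ((k × k) × orth β v w) ≃ₗ[k] V,
    (∀ p, e p = p.1.1 • v + p.1.2 • w + p.2.1) ∧
      ∀ p, β (e p) (e p) = p.1.1 * p.1.2 + res β v w p.2 p.2 := by
  have hvv : pol β v v = 0 := by rw [pol_apply, hv, add_zero]
  have hww : pol β w w = 0 := by rw [pol_apply, hw, add_zero]
  have hwv : pol β w v = 1 := by rw [pol_apply, add_comm]; exact hvw
  let f : ((k × k) × orth β v w) →ₗ[k] V :=
    { toFun := fun p => p.1.1 • v + p.1.2 • w + p.2.1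
      map_add' := fun p q => by simp only [Prod.fst_add, Prod.snd_add, Submodule.coe_add, add_smul]; abel
      map_smul' := fun c p => by
        simp only [Prod.smul_fst, Prod.smul_snd, Submodule.coe_smul, smul_eq_mul, RingHom.id_apply, smul_add,
          smul_smul] }
  have hfv : ∀ p, pol β v (f p) = p.1.2 ∧ pol β w (f p) = p.1.1 := fun p => by
    have h1 : pol β v p.2.1 = 0 := p.2.2.1
    have h2 : pol β w p.2.1 = 0 := p.2.2.2
    constructor
    · show pol β v (_ + _ + _) = _
      rw [map_add, map_add, map_smul, map_smul, hvv, hvw, h1]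
      simp
    · show pol β w (_ + _ + _) = _
      rw [map_add, map_add, map_smul, map_smul, hwv, hww, h2]
      simp
  have hbij : Function.Bijective f := by
    refine ⟨fun p q hpq => ?_, fun u => ?_⟩
    · have e1 := (hfv p).1.symm.trans ((congrArg (pol β v) hpq).trans (hfv q).1)
      have e2 := (hfv p).2.symm.trans ((congrArg (pol β w) hpq).trans (hfv q).2)
      refine Prod.ext (Prod.ext e2 e1) (Subtype.ext ?_)
      have : p.1.1 • v + p.1.2 • w + p.2.1 = q.1.1 • v + q.1.2 • w + q.2.1 := hpq
      rw [e1, e2] at this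
      exact add_left_cancel this
    · refine ⟨((pol β w u, pol β v u), ⟨u - pol β w u • v - pol β v u • w, ?_, ?_⟩), ?_⟩
      · show pol β v _ = 0
        rw [map_sub, map_sub, map_smul, map_smul, hvv, hvw]
        simp
      · show pol β w _ = 0
        rw [map_sub, map_sub, map_smul, map_smul, hwv, hww]
        simp
      · show pol β w u • v + pol β v u • w + (u - pol β w u • v - pol β v u • w) = u
        abel
  refine ⟨LinearEquiv.ofBijective f hbij, fun p => rfl, fun p => ?_⟩
  show β (f p) (f p) = _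
  have h1 : β v p.2.1 + β p.2.1 v = 0 := p.2.2.1
  have h2 : β w p.2.1 + β p.2.1 w = 0 := p.2.2.2
  have h3 : β v w + β w v = 1 := hvw
  show β (p.1.1 • v + p.1.2 • w + p.2.1) (p.1.1 • v + p.1.2 • w + p.2.1) = _ + β p.2.1 p.2.1
  simp only [map_add, map_smul, LinearMap.add_apply, LinearMap.smul_apply, smul_eq_mul, hv, hw]
  linear_combination p.1.1 * h1 + p.1.2 * h2 + p.1.1 * p.1.2 * h3

include hv hw hvw in
theorem nonDeg_res (hβ : NonDeg β) : NonDeg (res β v w) := by
  intro z hz hzz
  refine Subtype.ext (hβ z.1 hz fun u => ?_)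
  obtain ⟨e, he, -⟩ := exists_equiv β hv hw hvw
  obtain ⟨p, rfl⟩ := e.surjective u
  have h1 : β v z.1 + β z.1 v = 0 := z.2.1
  have h2 : β w z.1 + β z.1 w = 0 := z.2.2
  have h3 : β z.1 p.2.1 + β p.2.1 z.1 = 0 := hzz p.2
  rw [he, pol_apply]
  simp only [map_add, map_smul, LinearMap.add_apply, LinearMap.smul_apply, smul_eq_mul]
  linear_combination p.1.1 * h1 + p.1.2 * h2 + h3

include hv hw hvw in
theorem finrank_orth [FiniteDimensional k V] :
    Module.finrank k (orth β v w) + 2 = Module.finrank k V := by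
  obtain ⟨e, -, -⟩ := exists_equiv β hv hw hvw
  rw [← e.finrank_eq, Module.finrank_prod, Module.finrank_prod, Module.finrank_self]
  omega

include hv hw hvw in
theorem count_split [Finite k] [FiniteDimensional k V] :
    (N β : ℤ) = ((Nat.card k : ℤ) - 1) * (Nat.card k : ℤ) ^ Module.finrank k (orth β v w) +
      (Nat.card k : ℤ) * (N (res β v w) : ℤ) := by
  classical
  haveI := Fintype.ofFinite k
  haveI : Finite (orth β v w) := Module.finite_of_finite k
  obtain ⟨e, -, he⟩ := exists_equiv β hv hw hvw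
  let r := res β v w
  let T := {p : (k × k) × orth β v w // p.1.1 * p.1.2 + r p.2 p.2 = 0}
  let g : T ≃ ({x : k // x ≠ 0} × orth β v w) ⊕ (k × {z : orth β v w // r z z = 0}) :=
    { toFun := fun p => if h : p.1.1.1 = 0 then Sum.inr (p.1.1.2, ⟨p.1.2, by simpa [h] using p.2⟩)
        else Sum.inl (⟨p.1.1.1, h⟩, p.1.2)
      invFun := Sum.elim (fun q => ⟨((q.1.1, -(r q.2 q.2) / q.1.1), q.2), by
          show q.1.1 * (-(r q.2 q.2) / q.1.1) + r q.2 q.2 = 0
          rw [mul_div_cancel₀ _ q.1.2]; ring⟩)
        fun q => ⟨((0, q.1), q.2.1), by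
          show (0 : k) * q.1 + r q.2.1 q.2.1 = 0
          rw [q.2.2]; ring⟩
      left_inv := fun p => by
        by_cases h : p.1.1.1 = 0
        · simp only [dif_pos h, Sum.elim_inr]
          exact Subtype.ext (Prod.ext (Prod.ext h.symm rfl) rfl)
        · simp only [dif_neg h, Sum.elim_inl]
          refine Subtype.ext (Prod.ext (Prod.ext rfl ?_) rfl)
          have := p.2
          field_simp
          linear_combination -this
      right_inv := fun q => by
        rcases q with q | q
        · exact dif_neg q.1.2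
        · simp }
  have hN : N β = Nat.card T := Nat.card_congr (e.toEquiv.subtypeEquiv fun p => by
    show p.1.1 * p.1.2 + r p.2 p.2 = 0 ↔ β (e p) (e p) = 0
    rw [he]).symm
  have hne : Nat.card {x : k // x ≠ 0} + 1 = Nat.card k := by
    rw [← Nat.card_congr (Equiv.optionSubtypeNe (0 : k)), Finite.card_option]
  rw [hN, Nat.card_congr g, Nat.card_sum, Nat.card_prod, Nat.card_prod, ← hne,
    Module.natCard_eq_pow_finrank (K := k) (V := orth β v w), N]
  rw [← hne]
  push_cast
  ring

include hv hw hvw in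
/-- A singular subspace through `v` gives one in the complement. -/
theorem hasSing_res_of_mem [FiniteDimensional k V] {W : Submodule k V} (hW : ∀ x ∈ W, β x x = 0)
    (hvW : v ∈ W) (hv0 : v ≠ 0) {s : ℕ} (hs : Module.finrank k W = s + 1) : HasSing (res β v w) s := by
  have hWv : ∀ x ∈ W, pol β v x = 0 := fun x hx => by
    have := hW _ (W.add_mem hvW hx)
    simp only [map_add, LinearMap.add_apply, hv, hW x hx] at this
    rw [pol_apply]
    linear_combination this
  have hvv : pol β v v = 0 := hWv v hvW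
  have hwv : pol β w v = 1 := by rw [pol_apply, add_comm]; exact hvw
  let φ : W →ₗ[k] orth β v w := LinearMap.codRestrict _
    (W.subtype - LinearMap.toSpanSingleton k V v ∘ₗ pol β w ∘ₗ W.subtype) fun x => by
      constructor
      · show pol β v (x.1 - pol β w x.1 • v) = 0
        rw [map_sub, map_smul, hWv _ x.2, hvv]; simp
      · show pol β w (x.1 - pol β w x.1 • v) = 0
        rw [map_sub, map_smul, hwv]; simp
  have hker : LinearMap.ker φ = Submodule.span k {(⟨v, hvW⟩ : W)} := by
    refine le_antisymm (fun x hx => ?_) ((Submodule.span_singleton_le_iff_mem _ _).2 (Subtype.ext ?_))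
    · refine Submodule.mem_span_singleton.2 ⟨pol β w x.1, Subtype.ext ?_⟩
      have h : x.1 - pol β w x.1 • v = 0 := congrArg Subtype.val (LinearMap.mem_ker.1 hx)
      exact (sub_eq_zero.1 h).symm
    · show v - pol β w v • v = 0
      rw [hwv, one_smul, sub_self]
  refine ⟨LinearMap.range φ, ?_, ?_⟩
  · have h := φ.finrank_range_add_finrank_ker
    rw [hker, finrank_span_singleton (fun h0 => hv0 (congrArg Subtype.val h0)), hs] at h
    omega
  · rintro _ ⟨x, rfl⟩
    exact hW _ (W.sub_mem x.2 (W.smul_mem _ hvW))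

include hv hw hvw in
/-- Conversely. -/
theorem hasSing_of_res [FiniteDimensional k V] {s : ℕ} (h : HasSing (res β v w) s) : HasSing β (s + 1) := by
  obtain ⟨W, hs, hW⟩ := h
  obtain ⟨e, he, hQ⟩ := exists_equiv β hv hw hvw
  let ι : (k × W) →ₗ[k] V :=
    e.toLinearMap ∘ₗ ((LinearMap.inl k k k).prodMap W.subtype)
  have hι : Function.Injective ι := by
    refine e.injective.comp ?_
    rintro ⟨a, x⟩ ⟨b, y⟩ hab
    exact Prod.ext (congrArg (fun p => p.1.1) hab) (Subtype.ext (congrArg (fun p => p.2) hab))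
  refine ⟨LinearMap.range ι, ?_, ?_⟩
  · rw [LinearMap.finrank_range_of_inj hι, Module.finrank_prod, Module.finrank_self, hs, add_comm]
  · rintro _ ⟨p, rfl⟩
    show β (e _) (e _) = 0
    rw [hQ]
    show p.1 * 0 + res β v w p.2.1 p.2.1 = 0
    rw [hW _ p.2.2]
    ring

end Split

/-- The number of zeros of a nondegenerate form. -/
theorem count {k : Type u} [Field k] [Finite k] : ∀ (m : ℕ) (V : Type u) [AddCommGroup V] [Module k V]
    [FiniteDimensional k V], Module.finrank k V = m → ∀ β : V →ₗ[k] V →ₗ[k] k, NonDeg β →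
    (Odd m → (Nat.card k : ℤ) * N β = (Nat.card k : ℤ) ^ m) ∧
    ∀ s, m = 2 * s →
      (HasSing β s → (Nat.card k : ℤ) * N β = (Nat.card k : ℤ) ^ m + ((Nat.card k : ℤ) ^ (s + 1) - (Nat.card k : ℤ) ^ s)) ∧
      (¬ HasSing β s → (Nat.card k : ℤ) * N β = (Nat.card k : ℤ) ^ m - ((Nat.card k : ℤ) ^ (s + 1) - (Nat.card k : ℤ) ^ s)) := by
  intro m
  induction m using Nat.strong_induction_on with
  | _ m IH =>
    intro V _ _ _ hm β hβ
    set q : ℤ := (Nat.card k : ℤ)
    have step : ∀ {v : V}, v ≠ 0 → β v v = 0 → ∃ w, β w w = 0 ∧ pol β v w = 1 := fun hv0 hv => by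
      obtain ⟨w, h1, h2⟩ := exists_pair β hβ hv0 hv; exact ⟨w, h2, h1⟩
    by_cases hiso : ∃ v : V, v ≠ 0 ∧ β v v = 0
    · obtain ⟨v₁, hv₁0, hv₁⟩ := hiso
      constructor
      · intro hodd
        obtain ⟨w, hw, hvw⟩ := step hv₁0 hv₁
        have hd := finrank_orth β hv₁ hw hvw
        obtain ⟨h1, -⟩ := IH (Module.finrank k (orth β v₁ w)) (by omega) _ rfl (res β v₁ w) (nonDeg_res β hv₁ hw hvw hβ)
        have h2 := h1 (by rw [← hm, ← hd] at hodd; exact Nat.odd_add.1 hodd |>.2 even_two)
        rw [count_split β hv₁ hw hvw, ← hm, ← hd, pow_add]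
        linear_combination q * h2
      · intro s hs
        have hs1 : 1 ≤ s := by
          rcases Nat.eq_zero_or_pos s with rfl | h
          · exfalso
            have h0 : Module.finrank k V = 0 := by omega
            haveI := Module.finrank_zero_iff.1 h0
            exact hv₁0 (Subsingleton.elim _ _)
          · exact h
        obtain ⟨s', rfl⟩ : ∃ s', s = s' + 1 := ⟨s - 1, by omega⟩
        constructor
        · rintro ⟨W, hWs, hW⟩
          have hWne : W ≠ ⊥ := fun h => by rw [h, finrank_bot] at hWs; omega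
          obtain ⟨v, hvW, hv0⟩ := Submodule.exists_mem_ne_zero_of_ne_bot hWne
          have hv := hW v hvW
          obtain ⟨w, hw, hvw⟩ := step hv0 hv
          have hd := finrank_orth β hv hw hvw
          obtain ⟨-, h1⟩ := IH (Module.finrank k (orth β v w)) (by omega) _ rfl (res β v w) (nonDeg_res β hv hw hvw hβ)
          have h2 := (h1 s' (by omega)).1 (hasSing_res_of_mem β hv hw hvw hW hvW hv0 hWs)
          rw [count_split β hv hw hvw, ← hm, ← hd, pow_add, pow_succ q (s' + 1), pow_succ q s']
          linear_combination q * h2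
        · intro hno
          obtain ⟨w, hw, hvw⟩ := step hv₁0 hv₁
          have hd := finrank_orth β hv₁ hw hvw
          obtain ⟨-, h1⟩ := IH (Module.finrank k (orth β v₁ w)) (by omega) _ rfl (res β v₁ w) (nonDeg_res β hv₁ hw hvw hβ)
          have h2 := (h1 s' (by omega)).2 fun h => hno (hasSing_of_res β hv₁ hw hvw h)
          rw [count_split β hv₁ hw hvw, ← hm, ← hd, pow_add, pow_succ q (s' + 1), pow_succ q s']
          linear_combination q * h2
    · have hlt : m < 3 := by
        by_contra h
        exact hiso (exists_isotropic β (by omega))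
      have hN : N β = 1 := by
        refine Nat.card_eq_one_iff_unique.2 ⟨⟨fun a b => Subtype.ext ?_⟩, ⟨⟨0, by simp⟩⟩⟩
        have h0 : ∀ c : {v : V // β v v = 0}, c.1 = 0 := fun c => by_contra fun h => hiso ⟨c.1, h, c.2⟩
        rw [h0 a, h0 b]
      rw [hN]
      constructor
      · intro hodd
        obtain rfl : m = 1 := by rcases hodd with ⟨j, hj⟩; omega
        simp
      · intro s hs
        obtain ⟨rfl, rfl⟩ | ⟨rfl, rfl⟩ : (m = 0 ∧ s = 0) ∨ (m = 2 ∧ s = 1) := by omega
        · refine ⟨fun _ => by simp, fun h => absurd ?_ h⟩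
          exact ⟨⊥, finrank_bot k V, fun w hw => by rw [(Submodule.mem_bot k).1 hw]; simp⟩
        · refine ⟨?_, fun _ => by ring⟩
          rintro ⟨W, hWs, hW⟩
          have hWne : W ≠ ⊥ := fun h => by rw [h, finrank_bot] at hWs; omega
          obtain ⟨v, hvW, hv0⟩ := Submodule.exists_mem_ne_zero_of_ne_bot hWne
          exact absurd ⟨v, hv0, hW v hvW⟩ hiso

end GrothLib.QuadCount12
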