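import Groth.Agent.Lib.QuadCount12.Algebra
import Groth.Agent.Lib.Zeta.Spaces
import Groth.Agent.Lib.CI20.Points
import Groth.Agent.Lib.CI20.Algebra
import Groth.Agent.Lib.HypSurf.Chart
import Groth.Agent.Lib.HypCI12.Dim
import Groth.Agent.Lib.GrpSchField.ImageSmooth
import Groth.Agent.Lib.OmegaPn27.Proj
import Groth.Prelude.Def_SgaExt

/-!
# Rational points of hypersurfaces; the bilinear form of a smooth quadric
-/

set_option autoImplicit false
set_option linter.all false
set_option maxHeartbeats 800000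
set_option backward.isDefEq.respectTransparency false

universe u

open CategoryTheory CategoryTheory.Limits AlgebraicGeometry MvPolynomial HomogeneousLocalization
open GrothLib.Zeta (Coords coordsHom chartPt ratio chart)

noncomputable section

namespace GrothLib.QuadCount12

variable {k : Type u} [Field k] {n : ℕ}

theorem chartPt_mem_support {d : ℕ} (hd : 1 ≤ d) (F : LefPen.Form n k d) {i : Fin (n + 1)} (v : Coords k n i)
    (z : ↥(Spec (CommRingCat.of k))) :
    chartPt k k (coordsHom k v) z ∈ (LefPen.hypIdeal F).support ↔ eval v.1 (F.1 : MvPolynomial (Fin (n + 1)) k) = 0 := by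
  rw [CI20.mem_support_hyp, ← not_iff_not]
  show chartPt k k (coordsHom k v) z ∈ Proj.basicOpen (CohB1.polyGrading n k) F.1 ↔ _
  rw [chartPt, Scheme.Hom.comp_apply]
  have h := Proj.awayι_preimage_basicOpen (CohB1.polyGrading n k) (Zeta.X_mem k n i) Nat.one_pos F.2
    (by omega : 0 < d)
  refine (SetLike.ext_iff.mp h _).trans ?_
  show Away.isLocalizationElem (Zeta.X_mem k n i) F.2 ∉ (PrimeSpectrum.comap (coordsHom k v) z).asIdeal ↔ _
  rw [PrimeSpectrum.comap_asIdeal, Ideal.mem_comap]
  have hz : (z : PrimeSpectrum k).asIdeal = ⊥ :=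
    (Ideal.eq_bot_or_top _).resolve_right (z : PrimeSpectrum k).isPrime.ne_top
  rw [hz, Ideal.mem_bot]
  have e : Away.isLocalizationElem (Zeta.X_mem k n i) F.2 =
      MvPolynomial.eval₂Hom (Zeta.chartBase k n i) (ratio k n i) F.1 := by
    rw [← Zeta.away_eq_eval k n i d F.1 (by rw [smul_eq_mul, mul_one]; exact F.2)]
    exact HomogeneousLocalization.val_injective _ (by simp [Away.val_mk])
  have h2 : (coordsHom (k := k) k v).comp (MvPolynomial.eval₂Hom (Zeta.chartBase k n i) (ratio k n i)) =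
      MvPolynomial.eval v.1 := by
    refine MvPolynomial.ringHom_ext (fun r => ?_) (fun l => ?_)
    · simp only [RingHom.comp_apply, eval₂Hom_C, eval_C]
      exact RingHom.congr_fun (Zeta.coordsHom_base k v) r
    · simp only [RingHom.comp_apply, eval₂Hom_X', eval_X]
      exact Zeta.coordsHom_ratio k v l
  rw [e, ← RingHom.comp_apply, h2]

/-- Rational points of a hypersurface are normalised zeros of its form. -/
theorem pointCount_hyp {d : ℕ} (hd : 1 ≤ d) (F : LefPen.Form n k d) :
    SgaExt.pointCount ((LefPen.hypIdeal F).subschemeι ≫ CohB1.ProjSpace.toSpec n k) k =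
      Nat.card {s : Σ i : Fin (n + 1), Coords k n i // eval s.2.1 (F.1 : MvPolynomial (Fin (n + 1)) k) = 0} := by
  let I := LefPen.hypIdeal F
  let j := I.subschemeι
  let bc := Equiv.ofBijective _ (Zeta.bijective_coords (n := n) k k)
  let P := {p : {g : Spec (CommRingCat.of k) ⟶ CohB1.ProjSpace n k //
    g ≫ CohB1.ProjSpace.toSpec n k = Spec.map (CommRingCat.ofHom (algebraMap k k))} // ∀ z, p.1 z ∈ I.support}
  have hrange : ∀ x, x ∈ Set.range j ↔ x ∈ I.support := fun x => by
    rw [Scheme.IdealSheafData.range_subschemeι]; rfl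
  have hb : Function.Bijective (fun g : {g : Spec (CommRingCat.of k) ⟶ I.subscheme //
      g ≫ j ≫ CohB1.ProjSpace.toSpec n k = Spec.map (CommRingCat.ofHom (algebraMap k k))} =>
      (⟨⟨g.1 ≫ j, by rw [Category.assoc]; exact g.2⟩, fun z => (hrange _).1 ⟨g.1 z, rfl⟩⟩ : P)) := by
    refine ⟨fun g g' h => Subtype.ext ((cancel_mono j).1 (congrArg (fun p : P => p.1.1) h)), fun p => ?_⟩
    obtain ⟨l, hl⟩ := GrpSchField.exists_lift_of_range_subset j p.1.1 (by
      rintro _ ⟨z, rfl⟩; exact (hrange _).2 (p.2 z))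
    exact ⟨⟨l, by rw [← Category.assoc, hl]; exact p.1.2⟩, Subtype.ext (Subtype.ext hl)⟩
  refine (Nat.card_congr (Equiv.ofBijective _ hb)).trans (Nat.card_congr (bc.subtypeEquiv fun s => ?_).symm)
  show eval s.2.1 _ = 0 ↔ ∀ z, chartPt k k (coordsHom k s.2) z ∈ I.support
  constructor
  · exact fun h z => (chartPt_mem_support hd F s.2 z).2 h
  · intro h
    exact (chartPt_mem_support hd F s.2 default).1 (h default)

/-- Nonzero zeros are units times normalised zeros. -/
theorem card_zeros_ne_zero [Finite k] {d : ℕ} {F : MvPolynomial (Fin (n + 1)) k} (hF : F.IsHomogeneous d) :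
    Nat.card {v : Fin (n + 1) → k // v ≠ 0 ∧ eval v F = 0} =
      Nat.card kˣ * Nat.card {s : Σ i : Fin (n + 1), Coords k n i // eval s.2.1 F = 0} := by
  classical
  have hsc : ∀ (c : k) (v : Fin (n + 1) → k), eval (c • v) F = c ^ d * eval v F := fun c v =>
    Zeta.eval₂_mul_of_isHomogeneous (RingHom.id k) v c hF
  have hb : Function.Bijective (fun p : kˣ × {s : Σ i : Fin (n + 1), Coords k n i // eval s.2.1 F = 0} =>
      (⟨(p.1 : k) • p.2.1.2.1, fun h => by
        have := congrFun h p.2.1.1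
        rw [Pi.smul_apply, p.2.1.2.2.1, smul_eq_mul, mul_one] at this
        exact p.1.ne_zero this, by rw [hsc, p.2.2, mul_zero]⟩ : {v : Fin (n + 1) → k // v ≠ 0 ∧ eval v F = 0})) := by
    constructor
    · rintro ⟨c, ⟨⟨i, v⟩, hv⟩⟩ ⟨c', ⟨⟨i', v'⟩, hv'⟩⟩ h
      have h' : (c : k) • v.1 = (c' : k) • v'.1 := congrArg Subtype.val h
      have hi : i = i' := by
        rcases lt_trichotomy i i' with h1 | h1 | h1
        · have := congrFun h' i
          simp only [Pi.smul_apply, v.2.1, v'.2.2 i h1, smul_eq_mul, mul_one, mul_zero] at this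
          exact absurd this c.ne_zero
        · exact h1
        · have := congrFun h' i'
          simp only [Pi.smul_apply, v'.2.1, v.2.2 i' h1, smul_eq_mul, mul_one, mul_zero] at this
          exact absurd this.symm c'.ne_zero
      subst hi
      have hc : c = c' := Units.ext (by
        have := congrFun h' i
        simpa [v.2.1, v'.2.1] using this)
      subst hc
      obtain rfl : v = v' := Subtype.ext (smul_right_injective (Fin (n + 1) → k) c.ne_zero h')
      rfl
    · rintro ⟨v, hv0, hv⟩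
      have hne : (Finset.univ.filter fun i => v i ≠ 0).Nonempty := by
        by_contra h
        exact hv0 (funext fun i => by_contra fun hi => h ⟨i, Finset.mem_filter.2 ⟨Finset.mem_univ i, hi⟩⟩)
      let i := (Finset.univ.filter fun i => v i ≠ 0).min' hne
      have hi : v i ≠ 0 := (Finset.mem_filter.1 (Finset.min'_mem _ hne)).2
      refine ⟨(Units.mk0 _ hi, ⟨⟨i, ⟨(v i)⁻¹ • v, ?_, fun l hl => ?_⟩⟩, ?_⟩), Subtype.ext ?_⟩
      · rw [Pi.smul_apply, smul_eq_mul, inv_mul_cancel₀ hi]
      · by_contra h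
        have hl' : v l ≠ 0 := fun h0 => h (by rw [Pi.smul_apply, h0, smul_zero])
        exact absurd (Finset.min'_le _ l (Finset.mem_filter.2 ⟨Finset.mem_univ l, hl'⟩)) (not_le.2 hl)
      · show eval ((v i)⁻¹ • v) F = 0
        rw [hsc, hv, mul_zero]
      · show (v i) • ((v i)⁻¹ • v) = v
        rw [smul_smul, mul_inv_cancel₀ hi, one_smul]
  rw [← Nat.card_prod]
  exact (Nat.card_congr (Equiv.ofBijective _ hb)).symm

/-- A quadratic form has a matrix. -/
theorem exists_matrix {m : ℕ} {F : MvPolynomial (Fin m) k} (hF : F.IsHomogeneous 2) :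
    ∃ c : Fin m → Fin m → k, F = ∑ a, ∑ b, C (c a b) * (X a * X b) := by
  classical
  have h : F ∈ homogeneousSubmodule (Fin m) k 2 := hF
  rw [← homogeneousSubmodule_one_pow, pow_two, homogeneousSubmodule_one_eq_span_X, Submodule.span_mul_span] at h
  clear hF
  induction h using Submodule.span_induction with
  | mem x hx =>
    obtain ⟨_, ⟨a, rfl⟩, _, ⟨b, rfl⟩, rfl⟩ := Set.mem_mul.1 hx
    refine ⟨fun a' b' => if a' = a ∧ b' = b then 1 else 0, ?_⟩
    rw [Finset.sum_eq_single a (fun a' _ ha => Finset.sum_eq_zero fun b' _ => by simp [ha]) (by simp),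
      Finset.sum_eq_single b (fun b' _ hb => by simp [hb]) (by simp)]
    simp
  | zero => exact ⟨0, by simp⟩
  | add x y _ _ hx hy =>
    obtain ⟨c, rfl⟩ := hx
    obtain ⟨e, rfl⟩ := hy
    exact ⟨c + e, by simp [Finset.sum_add_distrib, add_mul, C_add]⟩
  | smul t x _ hx =>
    obtain ⟨c, rfl⟩ := hx
    exact ⟨t • c, by simp [Finset.smul_sum, smul_eq_C_mul, C_mul, mul_assoc]⟩

/-- The bilinear form of a smooth quadric hypersurface. -/
theorem exists_nonDeg (n : ℕ) (Q : LefPen.Form (n + 1) k 2)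
    [SmoothOfRelativeDimension n ((LefPen.hypIdeal Q).subschemeι ≫ CohB1.ProjSpace.toSpec (n + 1) k)] :
    ∃ β : (Fin (n + 1 + 1) → k) →ₗ[k] (Fin (n + 1 + 1) → k) →ₗ[k] k,
      (∀ v, β v v = eval v Q.1) ∧ NonDeg β := by
  classical
  obtain ⟨c, hc⟩ := exists_matrix (F := Q.1) Q.2
  let β := Matrix.toLinearMap₂' k (S₁ := k) (S₂ := k) (Matrix.of c)
  have hβ : ∀ v w, β v w = ∑ a, ∑ b, c a b * (v a * w b) := fun v w => by
    rw [Matrix.toLinearMap₂'_apply]
    exact Finset.sum_congr rfl fun a _ => Finset.sum_congr rfl fun b _ => by simp [mul_comm, mul_left_comm]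
  refine ⟨β, fun v => ?_, ?_⟩
  · rw [hβ, hc]; simp
  -- the form is nonzero
  have hne : (Q.1 : MvPolynomial (Fin (n + 1 + 1)) k) ≠ 0 := by
    intro h0
    let G0 : ∀ l : Fin 0, LefPen.Form (n + 1) k ((fun l => l.elim0 : Fin 0 → ℕ) l) := fun l => l.elim0
    let ch : Fin (n + 1 + 1) → (CohB1.ProjSpace (n + 1) k).affineOpens := fun j =>
      ⟨LefPen.chart (n + 1) k j, HypSurf.isAffineOpen_chart j⟩
    have hQ : LefPen.hypIdeal Q = LefPen.ciIdeal G0 := by
      refine Scheme.IdealSheafData.ext_of_iSup_eq_top ch (Ample.ProjMap.iSup_basicOpen_X (n + 1) k) fun j => ?_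
      rw [show (LefPen.hypIdeal Q).ideal (ch j) = _ from HypSurf.hypIdeal_ideal_eq Q (ch j) j le_rfl,
        Ample.res_self, CI20.ci_ideal_eq G0 j (ch j) le_rfl, ← CurveMult.PnMap.χ_form, h0, map_zero,
        Ideal.span_singleton_zero, Set.range_eq_empty, Ideal.span_empty]
    haveI : SmoothOfRelativeDimension n ((LefPen.ciIdeal G0).subschemeι ≫ CohB1.ProjSpace.toSpec (n + 1) k) :=
      hQ ▸ inferInstance
    have hbot : LefPen.ciIdeal G0 = ⊥ := le_bot_iff.1 (iSup_le fun l => l.elim0)
    haveI : IsIso (LefPen.ciIdeal G0).subschemeι := (Scheme.isIso_subschemeι_iff_eq_bot _).2 hbot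
    haveI := OmegaPn27.smoothOfRelativeDimension_toSpec (n + 1) k
    haveI : SmoothOfRelativeDimension (0 + (n + 1))
        ((LefPen.ciIdeal G0).subschemeι ≫ CohB1.ProjSpace.toSpec (n + 1) k) := inferInstance
    have e1 := HypCI12.dim_of_smooth G0 (Nat.zero_le _) (fun l => l.elim0) n
    have e2 := HypCI12.dim_of_smooth G0 (Nat.zero_le _) (fun l => l.elim0) (0 + (n + 1))
    rw [e1] at e2
    have : n = 0 + (n + 1) := by exact_mod_cast e2
    omega
  intro v hv hpol
  by_contra hv0
  obtain ⟨j, hj⟩ : ∃ j, v j ≠ 0 := by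
    by_contra h; exact hv0 (funext fun i => by_contra fun hi => h ⟨i, hi⟩)
  let u : Fin (n + 1 + 1) → k := (v j)⁻¹ • v
  have hu : β u u = 0 := by simp [u, hv]
  have hupol : ∀ w, β u w + β w u = 0 := fun w => by
    have h : β v w + β w v = 0 := hpol w
    simp only [u, map_smul, LinearMap.smul_apply, smul_eq_mul]
    linear_combination (v j)⁻¹ * h
  let w : Fin (n + 1) → k := fun l => u (j.succAbove l)
  let g := HypSurf.subst (k := k) j Q.1
  have hg0 : g ≠ 0 := fun h => hne (CI20.eq_zero_of_subst j Q.2 h)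
  haveI : Smooth ((LefPen.hypIdeal Q).subschemeι ≫ CohB1.ProjSpace.toSpec (n + 1) k) :=
    SmoothOfRelativeDimension.smooth (n := n) _
  have hsm := (HypSurf.smooth_chart_iff Q j).1 inferInstance
  let q : Ideal (MvPolynomial (Fin (n + 1)) k) := RingHom.ker (eval w)
  let T : Fin (n + 1 + 1) → MvPolynomial (Fin (n + 1)) k := Fin.insertNth j 1 X
  have hins : (fun a => eval w (T a)) = u := by
    funext a
    obtain rfl | ⟨l, rfl⟩ := Fin.eq_self_or_eq_succAbove j a
    · simp [T, u, inv_mul_cancel₀ hj]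
    · simp [T, w]
  have hT : g = ∑ a, ∑ b, C (c a b) *
      (T a * T b) := by
    simp [g, hc, HypSurf.subst, T]
  have hgq : g ∈ q := by
    show eval w g = 0
    rw [hT, ← hu, hβ]
    simp only [map_sum, map_mul, eval_C]
    refine Finset.sum_congr rfl fun a _ => Finset.sum_congr rfl fun b _ => ?_
    rw [← hins]
  obtain ⟨i, hi⟩ := (HypSurf.smooth_hypersurface_iff g hg0).1 hsm q (RingHom.ker_isPrime _) hgq
  apply hi
  show eval w (pderiv i g) = 0
  let e : Fin (n + 1 + 1) → k := Pi.single (j.succAbove i) 1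
  have hd : (fun a => eval w (pderiv i (T a))) = e := by
    funext a
    obtain rfl | ⟨l, rfl⟩ := Fin.eq_self_or_eq_succAbove j a
    · simp [T, e, Pi.single_apply, (Fin.succAbove_ne _ _).symm]
    · simp [T, e, Pi.single_apply, pderiv_X, Fin.succAbove_right_inj, eq_comm]
  rw [← hupol e, hβ, hβ, ← Finset.sum_add_distrib, hT]
  simp only [map_sum]
  refine Finset.sum_congr rfl fun a _ => ?_
  rw [← Finset.sum_add_distrib]
  refine Finset.sum_congr rfl fun b _ => ?_
  rw [← hins, ← hd]
  simp only [Derivation.leibniz, pderiv_C, smul_zero, add_zero, smul_eq_mul, map_add, map_mul, map_zero, mul_zero, eval_C]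
  ring

end GrothLib.QuadCount12
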